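import Cfsg.Agent.Lib.SFreeW.Endgame.Form

/-!
The configuration is impossible: the image of `Φ` on the module is TI, the form of `Q ∩ V` is realised inside the
chief factor, and the counting contradicts the bound for TI subgroups.
-/

set_option autoImplicit false
set_option linter.unusedSectionVars false
set_option linter.style.haveILetI false

open scoped commutatorElement

namespace CfsgLib.SFreeW.Endgame

open CfsgLib.Fusion.SFreeFF CfsgLib.Fusion.CentralOffender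

universe u

variable {Γ X V N Z : Type u} [Group Γ] [Finite Γ] [Group X] [Finite X] [CommGroup V] [Finite V] [CommGroup N]
  [Finite N] [CommGroup Z]
variable {φ : X →* MulAut V} {σ : Γ →* MulAut N} {j : V →* Γ} {k : Z →* Γ} {S Q Φ : Subgroup Γ} {π : Φ →* N}
  {ρ : S →* X} {M : Subgroup X} {D : Subgroup V}

/-- The vectors of `U` whose translates under `L` are fixed by `A`. -/
def transFix (φ : X →* MulAut V) (L A : Subgroup X) (U : Subgroup V) : Subgroup V where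
  carrier := {u | u ∈ U ∧ ∀ h ∈ L, φ h u ∈ fix φ A}
  one_mem' := ⟨U.one_mem, fun h _ => by rw [map_one]; exact one_mem _⟩
  mul_mem' := fun ha hb => ⟨U.mul_mem ha.1 hb.1, fun h hh => by rw [map_mul]; exact mul_mem (ha.2 h hh) (hb.2 h hh)⟩
  inv_mem' := fun ha => ⟨U.inv_mem ha.1, fun h hh => by rw [map_inv]; exact inv_mem (ha.2 h hh)⟩

theorem transFix_inv {L A : Subgroup X} {U : Subgroup V} (hU : Inv φ L U) : Inv φ L (transFix φ L A U) :=
  fun l hl u hu => ⟨hU l hl u hu.1, fun h hh => by rw [← apply_mul]; exact hu.2 _ (L.mul_mem hh hl)⟩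

theorem transFix_le_fix {L A : Subgroup X} {U : Subgroup V} {u : V} (hu : u ∈ transFix φ L A U) : u ∈ fix φ A := by
  simpa [apply_one] using hu.2 1 L.one_mem

/-- The commutators with a central element form an invariant subgroup. -/
theorem del_range_inv {z : X} : Inv φ (Subgroup.centralizer {z}) (del φ z).range := by
  rintro h hh _ ⟨v, rfl⟩
  exact ⟨φ h v, (del_comm φ (Subgroup.mem_centralizer_singleton_iff.mp hh) v).symm⟩

namespace Data

variable (d : Data φ σ j k S Q Φ π ρ M D)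
include d

/-- The image of `Φ` is commutative. -/
theorem image_comm : ∀ a ∈ (Φ.subgroupOf S).map ρ, ∀ a' ∈ (Φ.subgroupOf S).map ρ, a * a' = a' * a := by
  obtain ⟨θ, -, hθ⟩ := d.exists_image
  rw [← hθ]
  rintro _ ⟨m, rfl⟩ _ ⟨n, rfl⟩
  rw [← map_mul, ← map_mul, mul_comm]

theorem image_sq : ∀ a ∈ (Φ.subgroupOf S).map ρ, a * a = 1 := by
  obtain ⟨θ, -, hθ⟩ := d.exists_image
  rw [← hθ]
  rintro _ ⟨m, rfl⟩
  rw [← map_mul, d.expN, map_one]

/-- `Q` centralises the image of `Φ`. -/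
theorem image_comm_Q {q : S} (hq : (q : Γ) ∈ Q) {a : X} (ha : a ∈ (Φ.subgroupOf S).map ρ) :
    ρ q * a = a * ρ q := by
  obtain ⟨x, hx, rfl⟩ := ha
  have h : ρ ⁅x, q⁆ = 1 := (Subgroup.eq_bot_iff_forall _).mp d.image_k_eq_bot _
    ⟨⁅x, q⁆, show ((⁅x, q⁆ : S) : Γ) ∈ k.range from d.comm_mem_k hx hq, rfl⟩
  rw [map_commutatorElement, commutatorElement_eq_one_iff_mul_comm] at h
  exact h.symm

/-- The subgroup `Φ` fixes exactly the commuting vectors. -/
theorem fix_image_iff (v : V) : v ∈ fix φ ((Φ.subgroupOf S).map ρ) ↔ ∀ x ∈ Φ, x * j v = j v * x := by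
  constructor
  · intro h x hx
    exact (d.fix_iff ⟨x, d.Φ_S hx⟩ v).mp (h _ ⟨⟨x, d.Φ_S hx⟩, hx, rfl⟩)
  · rintro h _ ⟨s, hs, rfl⟩
    exact (d.fix_iff s v).mpr (h _ hs)

/-- The module meets `Q` in a subgroup of index less than the image of `Φ`. -/
theorem index_lt : (Q.comap j).index < Nat.card ((Φ.subgroupOf S).map ρ) := by
  have h1 := d.effective_card
  have h2 := d.card_image_mul (C := Φ.subgroupOf S) (fun x hx => hx) fun n => by
    obtain ⟨x, rfl⟩ := d.π_surj n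
    exact ⟨⟨x, d.Φ_S x.2⟩, x.2, rfl⟩
  rw [← (Q.comap j).index_mul_card] at h1
  have h3 : (Q.comap j).index * (Nat.card (Q.comap j) * Nat.card (fix σ j.range)) <
      Nat.card ((Φ.subgroupOf S).map ρ) * (Nat.card (Q.comap j) * Nat.card (fix σ j.range)) := by
    calc _ = (Q.comap j).index * Nat.card (Q.comap j) * Nat.card (fix σ j.range) := by ring
      _ < _ := h1
      _ ≤ _ := Nat.mul_le_mul_left _ h2
      _ = _ := by ring
  exact Nat.lt_of_mul_lt_mul_right h3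

variable {f : qc k Q →* (N →* Z)}
variable (hf : ∀ (q : qc k Q) (x : Φ), k (f q (π x)) = ⁅(x : Γ), (q : Γ)⁆)
include hf

theorem form_fix_iff (v : V) (hv : j v ∈ Q) :
    f ⟨j v, d.mem_qc_of_j hv⟩ = 1 ↔ v ∈ fix φ ((Φ.subgroupOf S).map ρ) := by
  rw [d.fix_image_iff, d.form_eq_one hf]

variable {b : N →* (N →* Z)} (hb : ∀ x : Φ, b (π x) = f ⟨x, d.mem_qc_of_Φ x.2⟩)
include hb

/-- The image of `Φ` is TI. -/
theorem image_ti : TI ((Φ.subgroupOf S).map ρ) M := by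
  obtain ⟨θ, hθ, hθr⟩ := d.exists_image
  set A := (Φ.subgroupOf S).map ρ with hA
  refine d.ti_of d.image_le d.image_ne d.M_Φ d.image_comm d.image_sq fun a ha ha1 h hh => ?_
  obtain ⟨x, hx, rfl⟩ := ha
  have hx' : (x : Γ) ∈ Φ := hx
  set U := (del φ (ρ x)).range
  set L := Subgroup.centralizer ({ρ x} : Set X)
  have hUL : Inv φ L U := del_range_inv
  have hhL : h⁻¹ ∈ L := inv_mem (Subgroup.mem_centralizer_singleton_iff.mpr hh)
  have hUΦ : ∀ u ∈ U, j u ∈ Φ := by rintro _ ⟨v, rfl⟩; exact d.del_mem_Φ hx v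
  have key : ∀ u ∈ U, u ∈ D → u ≠ 1 → φ h⁻¹ u ∈ fix φ A → h ∈ M := fun u _ huD hu1 hfix =>
    d.mem_of_fix d.image_le d.image_ne d.M_Φ huD hu1 fun c hc => by
      rw [apply_mul, apply_mul, hfix c hc, apply_inv']
  obtain ⟨v₀, hv₀⟩ : ∃ v, del φ (ρ x) v ≠ 1 := by
    by_contra hc
    push Not at hc
    exact ha1 (d.inj (MulEquiv.ext fun v => by rw [map_one, MulAut.one_apply]; exact (del_eq_one φ).mp (hc v)))
  by_cases hall : U ≤ fix φ A
  · obtain ⟨u, hu, huD, hu1⟩ : ∃ u ∈ U, u ∈ D ∧ u ≠ 1 := by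
      by_cases hm : ∃ v, j v ∈ Q ∧ del φ (ρ x) v ≠ 1
      · obtain ⟨v, hv, hne⟩ := hm
        exact ⟨_, ⟨v, rfl⟩, d.del_mem_D hx hv, hne⟩
      push Not at hm
      refine ⟨_, ⟨v₀, rfl⟩, d.D_ge _ ((d.π_ker ⟨_, d.del_mem_Φ hx v₀⟩).mp ?_), hv₀⟩
      refine d.form_separates hf fun q => (d.form_apply_eq_one hf q _).mpr ?_
      refine ((d.fix_iff ⟨q, d.qc_le q⟩ _).mp ?_).symm
      set v' := φ (ρ ⟨q, d.qc_le q⟩) v₀
      have hr : j (v' * v₀⁻¹) ∈ Q := by
        rw [← del_apply]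
        exact d.del_mem_Q (x := ⟨q, d.qc_le q⟩) q.2.1 v₀
      have hd1 := hm _ hr
      rw [map_mul, map_inv, mul_inv_eq_one] at hd1
      rw [del_comm φ (d.image_comm_Q (q := ⟨q, d.qc_le q⟩) q.2.1 ⟨x, hx, rfl⟩)]
      exact hd1
    exact key u hu huD hu1 (hall (hUL _ hhL u hu))
  obtain ⟨u₁, hu₁, hu₁A⟩ := SetLike.not_le_iff_exists.mp hall
  have hb1 : b ≠ 1 := fun hb1 => hu₁A ((d.fix_image_iff u₁).mpr fun y hy => by
    refine (d.ad_eq_one hf hb ⟨_, hUΦ u₁ hu₁⟩ ⟨y, hy⟩).mp ?_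
    rw [hb1]; rfl)
  have hfixD : ∀ u ∈ U, u ∈ fix φ A → u ∈ D := fun u hu hfu =>
    d.D_ge u ((d.π_ker ⟨_, hUΦ u hu⟩).mp (d.ad_injective hf hb hb1
      ((hb _).trans ((d.form_eq_one hf _).mpr ((d.fix_image_iff u).mp hfu)))))
  by_cases hW : transFix φ L A U = ⊥
  swap
  · obtain ⟨u, hu, hu1⟩ : ∃ u ∈ transFix φ L A U, u ≠ 1 := by
      by_contra hc
      push Not at hc
      exact hW ((Subgroup.eq_bot_iff_forall _).mpr hc)
    exact key u hu.1 (hfixD u hu.1 (transFix_le_fix hu)) hu1 (hu.2 _ hhL)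
  exfalso
  obtain ⟨U', ⟨hU'U, hU'ne, hU'L⟩, hmin⟩ := Set.exists_min_image
    {U' : Subgroup V | U' ≤ U ∧ U' ≠ ⊥ ∧ Inv φ L U'} (fun U' => Nat.card U') (Set.toFinite _)
    ⟨U, le_rfl, fun hbot => hv₀ (Subgroup.mem_bot.mp (hbot ▸ ⟨v₀, rfl⟩)), hUL⟩
  have hAL : A ≤ L := fun c hc => Subgroup.mem_centralizer_singleton_iff.mpr (d.image_comm c hc _ ⟨x, hx, rfl⟩)
  set ψ : L →* MulAut U' := restr (φ.comp L.subtype) U' fun l u hu => hU'L l l.2 u hu
  have hψ : ∀ (l : L) (u : U'), ((ψ l u : U') : V) = φ l u := fun _ _ => rfl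
  have hirr : Irred ψ := by
    intro W hWi
    by_contra hc
    push Not at hc
    refine hc.2 (Subgroup.eq_top_of_card_eq W (le_antisymm (Subgroup.card_le_card_group W) ?_))
    rw [← Subgroup.card_map_of_injective (f := U'.subtype) U'.subtype_injective (K := W)]
    refine hmin (W.map U'.subtype) ⟨(Subgroup.map_subtype_le W).trans hU'U, fun hbot => hc.1
      ((Subgroup.map_eq_bot_iff_of_injective W U'.subtype_injective).mp hbot), ?_⟩
    rintro l hl _ ⟨w, hw, rfl⟩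
    exact ⟨ψ ⟨l, hl⟩ w, hWi _ w hw, rfl⟩
  set A' := A.subgroupOf L
  have hquad : Quad ψ A' := by
    intro e he c hc u
    refine Subtype.ext ?_
    show φ (e : X) (del φ (c : X) (u : V)) = del φ (c : X) (u : V)
    obtain ⟨y, hy, hye⟩ := hc
    rw [show (c : X) = ρ y from hye.symm]
    exact (d.fix_image_iff _).mpr (fun z hz => d.k_central (by
      rw [d.j_del]
      exact d.comm_mem_k hy (d.Φ_le (hUΦ _ (hU'U u.2)))) hz) _ he
  have hnot : ¬ A' ≤ ψ.ker := by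
    intro hle
    refine hU'ne (le_bot_iff.mp (hW ▸ fun u hu => ⟨hU'U hu, fun l hl c hc => ?_⟩))
    have h1 := DFunLike.congr_fun (MonoidHom.mem_ker.mp (hle (x := ⟨c, hAL hc⟩) hc)) ⟨φ l u, hU'L l hl u hu⟩
    exact congrArg Subtype.val h1
  have hlt := (nf_all (Nat.card ψ.range + 1)).irr (noS3_subgroup d.noS3 L) (d.expV.subgroup U') hirr
    (Nat.lt_succ_self _) hquad hnot
  refine absurd hlt (not_lt.mpr ?_)
  let τ : U' →* N := π.comp ((j.comp U'.subtype).codRestrict Φ fun u => hUΦ u (hU'U u.2))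
  have hτ : ∀ u, τ u = π ⟨j (u : V), hUΦ u (hU'U u.2)⟩ := fun u => rfl
  let g : N →* MulAut U' := ψ.comp (θ.codRestrict L fun n => hAL (hθr ▸ ⟨n, rfl⟩))
  have hgk : g.ker ≤ perp b τ.range := by
    intro n hn
    refine mem_perp.mpr ?_
    rintro _ ⟨u, rfl⟩
    obtain ⟨y, rfl⟩ := d.π_surj n
    rw [hτ, d.ad_eq_one hf hb]
    have h1 : φ (θ (π y)) (u : V) = u := congrArg Subtype.val (DFunLike.congr_fun (MonoidHom.mem_ker.mp hn) u)
    rw [hθ] at h1
    exact (d.fix_iff _ _).mp h1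
  have h1 : dl τ.range + dl g.ker ≤ dl (⊤ : Subgroup N) := (Nat.add_le_add_left (dl_mono hgk) _).trans
    (semistable d.expN σ d.irred b hb1 (d.ad_equiv hf hb) τ.range)
  have h2 : Nat.card τ.range * Nat.card g.ker ≤ g.ker.index * Nat.card g.ker := by
    rw [g.ker.index_mul_card, ← Subgroup.card_top (G := N), card_eq_pow d.expN, card_eq_pow d.expN,
      card_eq_pow d.expN, ← pow_add]
    exact Nat.pow_le_pow_right two_pos h1
  have h3 : τ.ker ≤ fix ψ A' := by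
    intro u hu e he
    refine Subtype.ext ?_
    exact (d.fix_image_iff _).mpr (fun z hz => d.k_central ((d.π_ker _).mp hu) hz) _ he
  calc (fix ψ A').index ≤ τ.ker.index := Nat.le_of_dvd (Nat.pos_of_ne_zero Subgroup.index_ne_zero_of_finite)
        (Subgroup.index_dvd_of_le h3)
    _ = Nat.card τ.range := Subgroup.index_ker τ
    _ ≤ g.ker.index := Nat.le_of_mul_le_mul_right h2 Nat.card_pos
    _ = Nat.card g.range := Subgroup.index_ker g
    _ = ψ.ker.relIndex A' := by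
      rw [Subgroup.relIndex_ker]
      congr! 2
      ext α
      constructor
      · rintro ⟨n, rfl⟩
        exact ⟨⟨θ n, hAL (hθr ▸ ⟨n, rfl⟩)⟩, show θ n ∈ A from hθr ▸ ⟨n, rfl⟩, rfl⟩
      · rintro ⟨l, hl, rfl⟩
        obtain ⟨n, hn⟩ := (hθr.symm ▸ hl : (l : X) ∈ θ.range)
        exact ⟨n, congrArg ψ (Subtype.ext hn)⟩

/-- An involution from the centraliser of `Z₀` in `Q` has one point or its commutators are fixed by `Φ`. -/
theorem onePoint_or_fixed (q : qc k Q) (hq2 : ρ ⟨q, d.qc_le q⟩ * ρ ⟨q, d.qc_le q⟩ = 1) :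
    OnePoint M (ρ ⟨q, d.qc_le q⟩) ∨ ∀ v, del φ (ρ ⟨q, d.qc_le q⟩) v ∈ fix φ ((Φ.subgroupOf S).map ρ) := by
  have hti := d.image_ti hf hb
  set qs : S := ⟨q, d.qc_le q⟩
  set z := ρ qs
  set A := (Φ.subgroupOf S).map ρ
  by_contra hc
  obtain ⟨h1, hmov⟩ := not_or.mp hc
  push Not at hmov
  obtain ⟨v₁, hv₁⟩ := hmov
  simp only [OnePoint, not_forall] at h1
  obtain ⟨h, hh, hhM⟩ := h1
  set L := Subgroup.centralizer ({z} : Set X)
  set U := (del φ z).range
  have hUL : Inv φ L U := del_range_inv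
  have hhL : h ∈ L := Subgroup.mem_centralizer_singleton_iff.mpr hh
  have hAL : A ≤ L := fun c hc' => Subgroup.mem_centralizer_singleton_iff.mpr
    (d.image_comm_Q (q := qs) q.2.1 hc').symm
  have hUQ : ∀ u ∈ U, j u ∈ Q := by rintro _ ⟨v, rfl⟩; exact d.del_mem_Q q.2.1 v
  set W0 := transFix φ L A U
  have hW0D : ∀ u ∈ W0, u ∈ D → u = 1 := by
    intro u hu huD
    by_contra hu1
    exact hhM (d.mem_of_fix d.image_le d.image_ne d.M_Φ huD hu1 fun c hc => by
      rw [apply_mul, apply_mul, hu.2 _ (inv_mem hhL) c hc, apply_inv'])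
  obtain ⟨U', ⟨hU'U, hU'W, hU'L⟩, hmin⟩ := Set.exists_min_image
    {U' : Subgroup V | U' ≤ U ∧ ¬ U' ≤ W0 ∧ Inv φ L U'} (fun U' => Nat.card U') (Set.toFinite _)
    ⟨U, le_rfl, fun hle => hv₁ (transFix_le_fix (hle ⟨v₁, rfl⟩)), hUL⟩
  obtain ⟨u₀, hu₀, hu₀W⟩ := SetLike.not_le_iff_exists.mp hU'W
  have hdelD : ∀ c ∈ A, ∀ u ∈ U', del φ c u ∈ D := by
    rintro _ ⟨y, hy, rfl⟩ u hu
    exact d.del_mem_D hy (hUQ u (hU'U hu))
  have hdelU : ∀ c ∈ A, ∀ u ∈ U', del φ c u ∈ U' := fun c hc' u hu =>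
    U'.mul_mem (hU'L c (hAL hc') u hu) (U'.inv_mem hu)
  -- only the identity fixes `U'`
  have hfaith : ∀ a ∈ A, (∀ u ∈ U', φ a u = u) → a = 1 := by
    intro a ha hfx
    by_contra ha1
    have hnw : ¬ ∀ l ∈ L, φ l u₀ ∈ fix φ A := fun hn => hu₀W ⟨hU'U hu₀, hn⟩
    simp only [not_forall, mem_fix] at hnw
    obtain ⟨l, hl, c, hc', hne⟩ := hnw
    set u := del φ c (φ l u₀)
    have hu : u ∈ U' := hdelU c hc' _ (hU'L l hl _ hu₀)
    refine hhM (hti.mem_M ha ha1 (d.lem u (hdelD c hc' _ (hU'L l hl _ hu₀)) (fun e => hne ((del_eq_one φ).mp e)) _ ?_))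
    rw [apply_mul, apply_mul, hfx _ (hU'L _ (inv_mem hhL) u hu), apply_inv']
  set W := (W0.subgroupOf U')
  set ψ₀ : L →* MulAut U' := restr (φ.comp L.subtype) U' fun l u hu => hU'L l l.2 u hu
  have hWinv : ∀ (l : L), ∀ u ∈ W, ψ₀ l u ∈ W := fun l u hu => transFix_inv hUL l l.2 u hu
  set ψ := quot ψ₀ W hWinv
  have hirr : Irred ψ := by
    intro P hP
    set P' := (P.comap (QuotientGroup.mk' W)).map U'.subtype with hP'
    by_cases hle : P' ≤ W0
    · left
      refine (Subgroup.eq_bot_iff_forall _).mpr fun p hp => ?_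
      obtain ⟨w, rfl⟩ := QuotientGroup.mk'_surjective W p
      exact (QuotientGroup.eq_one_iff w).mpr (show (w : V) ∈ W0 from hle ⟨w, hp, rfl⟩)
    · right
      have hP'i : Inv φ L P' := by
        rintro l hl _ ⟨w, hw, rfl⟩
        exact ⟨ψ₀ ⟨l, hl⟩ w, hP _ _ hw, rfl⟩
      have h2 : P' = U' := Subgroup.eq_of_le_of_card_ge (Subgroup.map_subtype_le _)
        (hmin P' ⟨(Subgroup.map_subtype_le _).trans hU'U, hle, hP'i⟩)
      refine top_le_iff.mp fun p _ => ?_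
      obtain ⟨w, rfl⟩ := QuotientGroup.mk'_surjective W p
      obtain ⟨w', hw', e⟩ := (h2.symm ▸ w.2 : (w : V) ∈ P')
      rwa [← U'.subtype_injective (show U'.subtype w' = U'.subtype w from e)]
  set A' := A.subgroupOf L
  have hquad : Quad ψ A' := by
    refine quad_quot ψ₀ hWinv fun e he c hc' u => Subtype.ext ?_
    show φ (e : X) (del φ (c : X) (u : V)) = del φ (c : X) (u : V)
    obtain ⟨y, hy, hye⟩ := he
    rw [show (e : X) = ρ y from hye.symm]
    exact d.fix_D hy (hdelD _ hc' _ u.2)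
  have hker : ∀ a ∈ A', a ∈ ψ.ker → a = 1 := by
    intro a ha hk
    refine Subtype.ext (hfaith a ha fun u hu => ?_)
    have h2 := DFunLike.congr_fun (MonoidHom.mem_ker.mp hk) (QuotientGroup.mk ⟨u, hu⟩)
    rw [quot_mk, MulAut.one_apply, eq_mk_iff] at h2
    exact (del_eq_one φ).mp (hW0D _ h2 (hdelD a ha u hu))
  have hnot : ¬ A' ≤ ψ.ker := fun hle => d.image_ne ((Subgroup.eq_bot_iff_forall _).mpr fun a ha =>
    congrArg Subtype.val (hker ⟨a, hAL ha⟩ ha (hle (x := ⟨a, hAL ha⟩) ha)))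
  have hlt := (nf_all (Nat.card ψ.range + 1)).irr (noS3_subgroup d.noS3 L) ((d.expV.subgroup U').quotient W) hirr
    (Nat.lt_succ_self _) hquad hnot
  have hrel : ψ.ker.relIndex A' = Nat.card A := by
    rw [← Subgroup.inf_relIndex_right, (Subgroup.eq_bot_iff_forall _).mpr fun a (ha : a ∈ ψ.ker ⊓ A') => hker a (Subgroup.mem_inf.mp ha).2 (Subgroup.mem_inf.mp ha).1,
      Subgroup.relIndex_bot_left]
    exact Nat.card_congr (Subgroup.subgroupOfEquivOfLe hAL).toEquiv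
  -- `V / (Q ∩ V)` covers the quotient
  have hup : (fix ψ A').index ≤ (Q.comap j).index := by
    let e : U' →* U' ⧸ W := QuotientGroup.mk' W
    have h1 : (fix φ A).subgroupOf U' ≤ (fix ψ A').comap e := by
      intro u hu c hc'
      show ψ c (QuotientGroup.mk u) = QuotientGroup.mk u
      rw [quot_mk]
      exact congrArg _ (Subtype.ext (hu c hc'))
    have h3 : (Q.comap j) ≤ (fix φ A).comap (del φ z) := by
      intro r hr'
      have hr : j r ∈ Q := hr'
      refine (d.form_fix_iff hf _ (d.del_mem_Q q.2.1 r)).mp ?_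
      have e' : (⟨j (del φ z r), d.mem_qc_of_j (d.del_mem_Q q.2.1 r)⟩ : qc k Q) =
          q * ⟨j r, d.mem_qc_of_j hr⟩ * q⁻¹ * (⟨j r, d.mem_qc_of_j hr⟩)⁻¹ := Subtype.ext (d.j_del qs r)
      rw [e', map_mul, map_mul, map_mul, map_inv, map_inv]
      rw [mul_comm (f q), mul_inv_cancel_right, mul_inv_cancel]
    calc (fix ψ A').index = ((fix ψ A').comap e).index :=
          (Subgroup.index_comap_of_surjective _ (QuotientGroup.mk'_surjective W)).symm
      _ ≤ ((fix φ A).subgroupOf U').index := Nat.le_of_dvd (Nat.pos_of_ne_zero Subgroup.index_ne_zero_of_finite)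
          (Subgroup.index_dvd_of_le h1)
      _ = (fix φ A).relIndex U' := rfl
      _ ≤ (fix φ A).relIndex U := Subgroup.relIndex_le_of_le_right hU'U Subgroup.index_ne_zero_of_finite
      _ = ((fix φ A).comap (del φ z)).index := (Subgroup.index_comap _ _).symm
      _ ≤ _ := Nat.le_of_dvd (Nat.pos_of_ne_zero Subgroup.index_ne_zero_of_finite) (Subgroup.index_dvd_of_le h3)
  have h : (Q.comap j).index < Nat.card A := d.index_lt
  omega

/-- The form of an element of `Q ∩ V` is realised in the chief factor. -/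
theorem form_mem_range [Finite Z] (r : V) (hr : j r ∈ Q) : f ⟨j r, d.mem_qc_of_j hr⟩ ∈ b.range := by
  have hti := d.image_ti hf hb
  set A := (Φ.subgroupOf S).map ρ
  haveI := finite_hom N Z
  set q : qc k Q := ⟨j r, d.mem_qc_of_j hr⟩
  set Lg := Subgroup.normalClosure (j.range : Set Γ)
  have hLk : ∀ l ∈ Lg, ∀ z ∈ k.range, l * z = z * l := by
    intro l hl z hz
    haveI := d.k_norm
    have hle : Lg ≤ Subgroup.centralizer (k.range : Set Γ) := Subgroup.normalClosure_le_normal fun y hy => by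
      obtain ⟨v, rfl⟩ := hy
      exact Subgroup.mem_centralizer_iff.mpr (by rintro _ ⟨z, rfl⟩; exact d.k_comm_V z v)
    exact (Subgroup.mem_centralizer_iff.mp (hle hl) z hz).symm
  have hbequiv : ∀ l ∈ Lg, ∀ n, preAct (V := Z) σ l (b n) = b (σ l n) := by
    intro l hl n
    obtain ⟨x, rfl⟩ := d.π_surj n
    rw [hb, ← d.form_conj hf l (hLk l hl), ← d.π_conj, hb]
  obtain ⟨C, hCi, hdisj, hsum⟩ := ss_hom_any d.expN (ss_of_irred σ d.irred Lg) Z b.range (by
    rintro l _ ⟨n, rfl⟩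
    exact ⟨σ l n, (hbequiv l l.2 n).symm⟩)
  obtain ⟨p, hp, c, hc, e⟩ := Subgroup.mem_sup.mp (hsum.symm ▸ Subgroup.mem_top (f q) : f q ∈ b.range ⊔ C)
  suffices hc1 : c = 1 by rw [← e, hc1, mul_one]; exact hp
  have hw : ∀ (g : Γ) (v : V), preAct (V := Z) σ (g * j v * g⁻¹) c = c := by
    intro g v
    have hwL : g * j v * g⁻¹ ∈ Lg :=
      Subgroup.normalClosure_normal.conj_mem (j v) (Subgroup.subset_normalClosure (show j v ∈ (j.range : Set Γ) from ⟨v, rfl⟩)) g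
    set q' : qc k Q := ⟨g⁻¹ * j r * g, by simpa using d.conj_mem_qc g⁻¹ q.2⟩
    set qs : S := ⟨q', d.qc_le q'⟩
    have hq2 : ρ qs * ρ qs = 1 := by
      rw [← map_mul, show qs * qs = 1 from Subtype.ext ?_, map_one]
      show g⁻¹ * j r * g * (g⁻¹ * j r * g) = 1
      rw [show g⁻¹ * j r * g * (g⁻¹ * j r * g) = g⁻¹ * (j r * j r) * g by group, ← map_mul, d.expV, map_one, mul_one,
        inv_mul_cancel]
    -- a translate with fixed commutators
    obtain ⟨x, hfx⟩ : ∃ x : Φ, ∀ v', del φ (ρ (qs * ⟨x, d.Φ_S x.2⟩)) v' ∈ fix φ A := by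
      by_contra hall
      push Not at hall
      have hmem : ρ qs ∈ A := mem_of_onePoint (n := Nat.card X) le_rfl hti d.M_ne hq2
        (fun a ha => d.image_comm_Q q'.2.1 ha) fun a ha => by
          obtain ⟨y, hy, rfl⟩ := ha
          set q'' : qc k Q := q' * ⟨y, d.mem_qc_of_Φ hy⟩
          have e' : (⟨q'', d.qc_le q''⟩ : S) = qs * y := rfl
          rcases d.onePoint_or_fixed hf hb q'' (by
            rw [e', map_mul]
            calc ρ qs * ρ y * (ρ qs * ρ y) = ρ qs * (ρ y * ρ qs) * ρ y := by group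
              _ = ρ qs * (ρ qs * ρ y) * ρ y := by rw [d.image_comm_Q (q := qs) q'.2.1 ⟨y, hy, rfl⟩]
              _ = (ρ qs * ρ qs) * (ρ y * ρ y) := by group
              _ = 1 := by rw [hq2, d.image_sq _ ⟨y, hy, rfl⟩, one_mul]) with h | h
          · rw [e', map_mul] at h
            exact h
          · obtain ⟨v', hv'⟩ := hall ⟨y, hy⟩
            exact absurd (h v') hv'
      obtain ⟨y, hy, hye⟩ := hmem
      obtain ⟨v', hv'⟩ := hall ⟨(y : Γ)⁻¹, Φ.inv_mem hy⟩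
      refine hv' ?_
      rw [show (⟨(y : Γ)⁻¹, d.Φ_S (Φ.inv_mem hy)⟩ : S) = y⁻¹ from rfl, map_mul, map_inv, hye, mul_inv_cancel,
        show del φ 1 v' = 1 from (del_eq_one φ).mpr (apply_one φ v')]
      exact one_mem _
    set q'' : qc k Q := q' * ⟨x, d.mem_qc_of_Φ x.2⟩
    have hconj : f ⟨j v * (q'' : Γ) * (j v)⁻¹, d.conj_mem_qc _ q''.2⟩ = f q'' := by
      have hmem : j (del φ (ρ ⟨q'', d.qc_le q''⟩) v) ∈ Q := d.del_mem_Q q''.2.1 v
      have h1 := (d.form_fix_iff hf _ hmem).mpr (hfx v)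
      have e' : (⟨j v * (q'' : Γ) * (j v)⁻¹, d.conj_mem_qc _ q''.2⟩ : qc k Q) =
          (⟨j (del φ (ρ ⟨q'', d.qc_le q''⟩) v), d.mem_qc_of_j hmem⟩)⁻¹ * q'' := by
        refine Subtype.ext ?_
        show j v * (q'' : Γ) * (j v)⁻¹ = (j (del φ (ρ ⟨q'', d.qc_le q''⟩) v))⁻¹ * (q'' : Γ)
        rw [d.j_del]
        show j v * (q'' : Γ) * (j v)⁻¹ = ((q'' : Γ) * j v * (q'' : Γ)⁻¹ * (j v)⁻¹)⁻¹ * (q'' : Γ)
        group
      rw [e', map_mul, map_inv, h1, inv_one, one_mul]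
    have h2 := d.form_conj_congr hf g hconj
    set x' : Φ := ⟨g * (x : Γ) * g⁻¹, d.conj_mem_Φ g x.2⟩
    have e1 : (⟨g * (q'' : Γ) * g⁻¹, d.conj_mem_qc g q''.2⟩ : qc k Q) = q * ⟨x', d.mem_qc_of_Φ x'.2⟩ := by
      refine Subtype.ext ?_
      show g * (g⁻¹ * j r * g * (x : Γ)) * g⁻¹ = j r * (g * (x : Γ) * g⁻¹)
      group
    set w := g * j v * g⁻¹
    have e2 : (⟨g * (j v * (q'' : Γ) * (j v)⁻¹) * g⁻¹, d.conj_mem_qc g (d.conj_mem_qc _ q''.2)⟩ : qc k Q) =
        ⟨w * ((q * ⟨x', d.mem_qc_of_Φ x'.2⟩ : qc k Q) : Γ) * w⁻¹, d.conj_mem_qc _ (SetLike.coe_mem _)⟩ := by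
      refine Subtype.ext ?_
      show g * (j v * (g⁻¹ * j r * g * (x : Γ)) * (j v)⁻¹) * g⁻¹ =
        g * j v * g⁻¹ * (j r * (g * (x : Γ) * g⁻¹)) * (g * j v * g⁻¹)⁻¹
      group
    rw [e1, e2, d.form_conj hf w (hLk w hwL), map_mul f q, map_mul, ← hb, hbequiv w hwL, ← e, map_mul] at h2
    refine mul_inv_eq_one.mp (Subgroup.mem_bot.mp (hdisj.le ⟨?_, C.mul_mem (hCi ⟨w, hwL⟩ c hc) (C.inv_mem hc)⟩))
    rw [show preAct (V := Z) σ w c * c⁻¹ = p * b (π x') * (preAct σ w p)⁻¹ * (b (σ w (π x')))⁻¹ by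
      have h3 : preAct (V := Z) σ w c = p * c * b (π x') * (preAct σ w p)⁻¹ * (b (σ w (π x')))⁻¹ := by
        rw [← h2]; simp [mul_assoc, mul_comm, mul_left_comm]
      rw [h3]
      simp [mul_assoc, mul_comm, mul_left_comm]]
    obtain ⟨m, rfl⟩ := hp
    rw [hbequiv w hwL]
    exact mul_mem (mul_mem (mul_mem ⟨_, rfl⟩ ⟨_, rfl⟩) (Subgroup.inv_mem _ ⟨_, rfl⟩)) (Subgroup.inv_mem _ ⟨_, rfl⟩)
  have hker : c.ker = ⊤ := by
    refine d.span_eq_top fun g v n => MonoidHom.mem_ker.mpr ?_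
    have h := DFunLike.congr_fun (hw g v⁻¹) n
    rw [preAct_apply, show (g * j v⁻¹ * g⁻¹)⁻¹ = g * j v * g⁻¹ by rw [map_inv]; group] at h
    rw [map_mul, map_inv, h, mul_inv_cancel]
  exact MonoidHom.ext fun n => MonoidHom.mem_ker.mp (hker.symm ▸ Subgroup.mem_top n)

omit hf hb

/-- The configuration does not exist. -/
theorem false : False := by
  haveI : Finite Z := Finite.of_injective k d.k_inj
  haveI := finite_hom N Z
  obtain ⟨f, hf⟩ := d.exists_form
  obtain ⟨b, hb⟩ := d.exists_ad hf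
  obtain ⟨θ, hθ, hθr⟩ := d.exists_image
  have hb1 : b ≠ 1 := by
    intro hb1
    obtain ⟨v, hv, hne⟩ := d.exists_moving hf
    obtain ⟨n, hn⟩ := d.form_mem_range hf hb v hv
    exact hne (hn.symm.trans (by rw [hb1]; rfl))
  set A := (Φ.subgroupOf S).map ρ
  have hA : Nat.card A * Nat.card θ.ker = Nat.card N := by
    rw [← hθr, ← Subgroup.index_ker, Subgroup.index_mul_card]
  -- the form of `Q ∩ V`
  set g : (Q.comap j) →* (N →* Z) := f.comp ((j.comp (Q.comap j).subtype).codRestrict _ fun v => d.mem_qc_of_j v.2)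
  have hgr : g.range ≤ (perp b θ.ker).map b := by
    rintro _ ⟨v, rfl⟩
    obtain ⟨n, hn⟩ := d.form_mem_range hf hb v v.2
    refine ⟨n, mem_perp.mpr fun m hm => (d.ad_symm hf hb m n).mpr ?_, hn⟩
    rw [hn]
    obtain ⟨y, rfl⟩ := d.π_surj m
    rw [d.form_apply_eq_one hf]
    refine (d.fix_iff ⟨y, d.Φ_S y.2⟩ v).mp ?_
    rw [← hθ, MonoidHom.mem_ker.mp hm, apply_one]
  have hgcard : Nat.card g.range ≤ Nat.card A := by
    refine (Subgroup.card_le_of_le hgr).trans ((Nat.card_le_card_of_surjective _ (b.subgroupMap_surjective _)).trans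
      (Nat.le_of_mul_le_mul_right (c := Nat.card θ.ker) ?_ Nat.card_pos))
    rw [hA, ← Subgroup.card_top (G := N), card_eq_pow d.expN, card_eq_pow d.expN, card_eq_pow d.expN, ← pow_add]
    exact Nat.pow_le_pow_right two_pos
      (by rw [add_comm]; exact semistable d.expN σ d.irred b hb1 (d.ad_equiv hf hb) θ.ker)
  have hker : Nat.card g.ker ≤ Nat.card (fix φ A) := by
    rw [← Subgroup.card_map_of_injective (f := (Q.comap j).subtype) (Q.comap j).subtype_injective (K := g.ker)]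
    exact Subgroup.card_le_of_le (by
      rintro _ ⟨v, hv, rfl⟩
      exact (d.form_fix_iff hf _ v.2).mp (MonoidHom.mem_ker.mp hv))
  have hRV : Nat.card (Q.comap j) ≤ Nat.card A * Nat.card (fix φ A) := by
    rw [← g.ker.index_mul_card, Subgroup.index_ker]
    exact Nat.mul_le_mul hgcard hker
  have hrep : Rep φ A M := ⟨d.inj, d.expV, d.noS3, d.core, d.image_ti hf hb, by
    rintro _ ⟨x, hx, rfl⟩ _ ⟨y, hy, rfl⟩ _ ⟨z, hz, rfl⟩ v
    exact (del_eq_one φ).mpr (d.fix_D hx (d.del_mem_D hy (d.Φ_le (d.del_mem_Φ hz v))))⟩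
  have hbound := two_mul_dl_le_codim hrep
  have hlt : Nat.card V < Nat.card A * Nat.card A * Nat.card (fix φ A) := by
    calc Nat.card V = (Q.comap j).index * Nat.card (Q.comap j) := (Q.comap j).index_mul_card.symm
      _ < Nat.card A * Nat.card (Q.comap j) := Nat.mul_lt_mul_of_pos_right d.index_lt Nat.card_pos
      _ ≤ Nat.card A * (Nat.card A * Nat.card (fix φ A)) := Nat.mul_le_mul_left _ hRV
      _ = _ := by ring
  rw [hrep.card_sub le_rfl, card_eq_pow d.expV (fix φ A), ← Subgroup.card_top (G := V), card_eq_pow d.expV,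
    ← pow_add, ← pow_add] at hlt
  have := (Nat.pow_lt_pow_iff_right one_lt_two).mp hlt
  omega

end Data

end CfsgLib.SFreeW.Endgame
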