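import Cfsg.Agent.Lib.SFreeW.Endgame.Data
import Cfsg.Agent.Lib.Fusion.SFreeFF.Main

/-!
The bottom `Z₀` of the chief factor centralises the module.
-/

set_option autoImplicit false
set_option linter.unusedSectionVars false
set_option linter.style.haveILetI false

open scoped commutatorElement

namespace CfsgLib.SFreeW.Endgame

open CfsgLib.Fusion.SFreeFF CfsgLib.Fusion.CentralOffender

universe u

variable {Γ X V N Z : Type u} [Group Γ] [Finite Γ] [Group X] [Finite X] [CommGroup V] [Finite V] [CommGroup N]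
  [Finite N] [CommGroup Z]
variable {φ : X →* MulAut V} {σ : Γ →* MulAut N} {j : V →* Γ} {k : Z →* Γ} {S Q Φ : Subgroup Γ} {π : Φ →* N}
  {ρ : S →* X} {M : Subgroup X} {D : Subgroup V}

namespace Data

variable (d : Data φ σ j k S Q Φ π ρ M D)
include d

/-- The translates of the commutators with the module span the chief factor. -/
theorem span_eq_top {P : Subgroup N} (h : ∀ (g : Γ) (v : V) (n : N), σ (g * j v * g⁻¹) n * n⁻¹ ∈ P) : P = ⊤ := by
  set s := {x : N | ∃ (g : Γ) (v : V) (n : N), σ (g * j v * g⁻¹) n * n⁻¹ = x}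
  have hinv : ∀ g, ∀ u ∈ Subgroup.closure s, σ g u ∈ Subgroup.closure s := by
    intro g u hu
    refine ((Subgroup.closure_le ((Subgroup.closure s).comap (σ g).toMonoidHom)).mpr ?_) hu
    rintro _ ⟨g', v, n, rfl⟩
    refine Subgroup.subset_closure ⟨g * g', v, σ g n, ?_⟩
    show _ = σ g (σ (g' * j v * g'⁻¹) n * n⁻¹)
    rw [map_mul (σ g), map_inv (σ g), ← MulAut.mul_apply, ← map_mul σ, ← MulAut.mul_apply, ← map_mul σ]
    group
  rcases d.irred _ hinv with h0 | h0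
  · exfalso
    obtain ⟨v, hv⟩ := d.outside
    refine hv (d.V_moves v (MulEquiv.ext fun n => ?_))
    have := Subgroup.mem_bot.mp (h0.le (Subgroup.subset_closure (k := s) ⟨1, v, n, rfl⟩))
    rw [one_mul, inv_one, mul_one, mul_inv_eq_one] at this
    exact this
  · exact top_le_iff.mp (h0 ▸ (Subgroup.closure_le _).mpr (by rintro _ ⟨g, v, n, rfl⟩; exact h g v n))

/-- A subgroup of `Φ` covering the chief factor has a large image on the module. -/
theorem card_image_mul {C : Subgroup S} (hC : ∀ x ∈ C, (x : Γ) ∈ Φ)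
    (hπ : ∀ n, ∃ (x : S) (hx : x ∈ C), π ⟨x, hC x hx⟩ = n) :
    Nat.card N ≤ Nat.card (C.map ρ) * Nat.card (fix σ j.range) := by
  set ψ : C →* N := π.comp ((S.subtype.comp C.subtype).codRestrict Φ fun x => hC x x.2)
  have hψ : Function.Surjective ψ := fun n => by
    obtain ⟨x, hx, e⟩ := hπ n
    exact ⟨⟨x, hx⟩, e⟩
  set g := ρ.comp C.subtype with hgdef
  have h1 : Nat.card N * Nat.card ψ.ker = Nat.card C := by
    rw [← ψ.ker.index_mul_card, Subgroup.index_ker, MonoidHom.range_eq_top.mpr hψ, Subgroup.card_top]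
  have h2 : Nat.card (C.map ρ) * Nat.card g.ker = Nat.card C := by
    rw [← g.ker.index_mul_card, Subgroup.index_ker, hgdef, MonoidHom.range_comp, Subgroup.range_subtype]
  set χ := ψ.comp g.ker.subtype
  have h3 : Nat.card χ.range * Nat.card χ.ker = Nat.card g.ker := by
    rw [← χ.ker.index_mul_card, Subgroup.index_ker]
  have h4 : Nat.card χ.range ≤ Nat.card (fix σ j.range) := Subgroup.card_le_of_le (by
    rintro _ ⟨⟨⟨x, hxC⟩, hx⟩, rfl⟩ _ ⟨v, rfl⟩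
    have hfix : φ (ρ x) v = v := by
      rw [show ρ x = 1 from MonoidHom.mem_ker.mp hx, apply_one]
    show σ (j v) (π ⟨(x : Γ), hC x hxC⟩) = π ⟨(x : Γ), hC x hxC⟩
    rw [← d.π_equiv (j v) ⟨(x : Γ), hC x hxC⟩ (d.conj_mem_Φ _ (hC x hxC))]
    exact congrArg π (Subtype.ext (mul_inv_eq_iff_eq_mul.mpr ((d.fix_iff x v).mp hfix).symm)))
  have h5 : Nat.card χ.ker ≤ Nat.card ψ.ker := by
    rw [← Subgroup.card_map_of_injective g.ker.subtype_injective (K := χ.ker)]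
    exact Subgroup.card_le_of_le (by rintro _ ⟨y, hy, rfl⟩; exact hy)
  refine Nat.le_of_mul_le_mul_right (c := Nat.card ψ.ker) ?_ Nat.card_pos
  calc Nat.card N * Nat.card ψ.ker = Nat.card (C.map ρ) * (Nat.card χ.range * Nat.card χ.ker) := by rw [h1, h3, h2]
    _ ≤ Nat.card (C.map ρ) * (Nat.card (fix σ j.range) * Nat.card ψ.ker) :=
        Nat.mul_le_mul_left _ (Nat.mul_le_mul h4 h5)
    _ = _ := by ring

/-- A quadratic subgroup fixing `R` satisfies `|B| |R| ≤ |V|`. -/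
theorem quad_card_le {B : Subgroup X} (hq : Quad φ B) {R : Subgroup V} (hR : R ≤ fix φ B) :
    Nat.card B * Nat.card R ≤ Nat.card V := by
  by_cases hB : B = ⊥
  · subst hB
    rw [Subgroup.card_bot, one_mul]
    exact Subgroup.card_le_card_group R
  refine le_of_lt (lt_of_le_of_lt ?_ (no_offender φ d.inj d.expV d.core d.noS3 hB hq))
  exact Nat.mul_le_mul_left _ (Subgroup.card_le_of_le hR)

theorem effective_card : Nat.card V * Nat.card (fix σ j.range) < Nat.card (Q.comap j) * Nat.card N := by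
  rw [← Subgroup.card_top (G := V), ← Subgroup.card_top (G := N), card_eq_pow d.expV, card_eq_pow d.expV,
    card_eq_pow d.expN, card_eq_pow d.expN, ← pow_add, ← pow_add]
  exact Nat.pow_lt_pow_right one_lt_two d.effective

/-- No part of `Φ` covering the chief factor acts quadratically and fixes `Q ∩ V`. -/
theorem false_of_cover {C : Subgroup S} (hC : ∀ x ∈ C, (x : Γ) ∈ Φ)
    (hπ : ∀ n, ∃ (x : S) (hx : x ∈ C), π ⟨x, hC x hx⟩ = n) (hq : Quad φ (C.map ρ))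
    (hfix : Q.comap j ≤ fix φ (C.map ρ)) : False := by
  refine absurd d.effective_card (not_lt.mpr ?_)
  calc Nat.card (Q.comap j) * Nat.card N
      ≤ Nat.card (Q.comap j) * (Nat.card (C.map ρ) * Nat.card (fix σ j.range)) :=
        Nat.mul_le_mul_left _ (d.card_image_mul hC hπ)
    _ = Nat.card (C.map ρ) * Nat.card (Q.comap j) * Nat.card (fix σ j.range) := by ring
    _ ≤ _ := Nat.mul_le_mul_right _ (d.quad_card_le hq hfix)

theorem π_conj (g : Γ) (x : Φ) : π ⟨g * (x : Γ) * g⁻¹, d.conj_mem_Φ g x.2⟩ = σ g (π x) := d.π_equiv g x _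

/-- The bottom of the chief factor acts trivially on the module. -/
theorem image_k_eq_bot : (k.range.subgroupOf S).map ρ = ⊥ := by
  set A₀ := (k.range.subgroupOf S).map ρ with hA₀
  by_contra hne
  have hmem : ∀ a ∈ A₀, ∃ s : S, (s : Γ) ∈ k.range ∧ ρ s = a := fun a ha => ha
  have hkΦ : ∀ {x : Γ}, x ∈ k.range → x ∈ Φ := by rintro _ ⟨z, rfl⟩; exact d.k_le z
  have hle : A₀ ≤ ρ.range := Subgroup.map_le_range ρ _
  have hdel : ∀ a ∈ A₀, ∀ v, del φ a v ∈ D := by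
    intro a ha v
    obtain ⟨s, hs, rfl⟩ := hmem a ha
    refine d.D_ge _ ?_
    rw [d.j_del, mul_assoc, mul_assoc, ← mul_assoc (j v)]
    exact k.range.mul_mem hs (d.k_norm.conj_mem _ (inv_mem hs) (j v))
  have hfixD : ∀ a ∈ A₀, ∀ v ∈ D, φ a v = v := by
    intro a ha v hv
    obtain ⟨s, hs, rfl⟩ := hmem a ha
    exact d.fix_D (hkΦ hs) hv
  -- `A₀` is TI
  have hsq : ∀ a ∈ A₀, a * a = 1 := fun a ha => d.inj (MulEquiv.ext fun v => by
    rw [map_one, MulAut.one_apply, ← del_eq_one φ, del_mul, (del_eq_one φ).mpr (hfixD a ha _ (hdel a ha v)), mul_one,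
      d.expV])
  have hti : TI A₀ M := by
    refine d.ti_of hle hne d.M_k ?_ hsq ?_
    · intro a ha b hb
      obtain ⟨s, hs, rfl⟩ := hmem a ha
      obtain ⟨t, ht, rfl⟩ := hmem b hb
      rw [← map_mul, ← map_mul]
      exact congrArg ρ (Subtype.ext (d.k_central ht (hkΦ hs)))
    · intro a ha ha1 x hx
      obtain ⟨v, hv⟩ : ∃ v, del φ a v ≠ 1 := by
        by_contra h
        push Not at h
        exact ha1 (d.inj (MulEquiv.ext fun v => by rw [map_one, MulAut.one_apply, ← del_eq_one φ]; exact h v))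
      refine d.mem_of_fix hle hne d.M_k (hdel a ha v) hv fun b hb => ?_
      have hc : x⁻¹ * a = a * x⁻¹ := by
        calc x⁻¹ * a = x⁻¹ * (a * x) * x⁻¹ := by group
          _ = a * x⁻¹ := by rw [← hx]; group
      have e : φ x⁻¹ (del φ a v) = del φ a (φ x⁻¹ v) := del_comm φ hc v
      rw [apply_mul, apply_mul, e, hfixD b hb _ (hdel a ha _), ← e, apply_inv']
  -- the elements of `Φ` fixing `Q ∩ V`
  let C : Subgroup S :=
    { carrier := {x | (x : Γ) ∈ Φ ∧ ∀ v, j v ∈ Q → φ (ρ x) v = v}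
      one_mem' := ⟨Φ.one_mem, fun v _ => by rw [map_one, apply_one]⟩
      mul_mem' := fun {a b} ha hb => ⟨Φ.mul_mem ha.1 hb.1, fun v hv => by
        rw [map_mul, apply_mul, hb.2 v hv, ha.2 v hv]⟩
      inv_mem' := fun {a} ha => ⟨Φ.inv_mem ha.1, fun v hv => by
        rw [map_inv]
        conv_lhs => rw [← ha.2 v hv]
        rw [apply_inv]⟩ }
  have hC : ∀ x ∈ C, (x : Γ) ∈ Φ := fun x hx => hx.1
  have hinvol : ∀ y : S, (y : Γ) ∈ Φ → (y : Γ) * y = 1 →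
      ∃ z : S, (z : Γ) ∈ k.range ∧ y * z ∈ C := by
    intro y hy hy2
    have he2 : ρ y * ρ y = 1 := by
      rw [← map_mul, show y * y = (1 : S) from Subtype.ext hy2, map_one]
    by_cases hin : ρ y ∈ A₀
    · obtain ⟨s, hs, e⟩ := hmem _ hin
      refine ⟨s⁻¹, inv_mem hs, Φ.mul_mem hy (hkΦ (inv_mem hs)), fun v _ => ?_⟩
      rw [map_mul, map_inv, e, mul_inv_cancel, apply_one]
    obtain ⟨a, ha, hnot⟩ : ∃ a ∈ A₀, ¬ OnePoint M (ρ y * a) := by
      by_contra h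
      push Not at h
      exact hin (mem_of_onePoint le_rfl hti d.M_ne he2 (fun a ha => by
        obtain ⟨s, hs, rfl⟩ := hmem a ha
        rw [← map_mul, ← map_mul]
        exact congrArg ρ (Subtype.ext (d.k_central hs hy))) h)
    obtain ⟨s, hs, rfl⟩ := hmem a ha
    refine ⟨s, hs, Φ.mul_mem hy (hkΦ hs), fun r hr => ?_⟩
    by_contra hmov
    simp only [OnePoint, not_forall] at hnot
    obtain ⟨h, hh, hhM⟩ := hnot
    rw [← map_mul] at hh
    set x' := ρ (y * s)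
    refine hhM (d.mem_of_fix hle hne d.M_k (d.del_mem_D (x := y * s) (Φ.mul_mem hy (hkΦ hs)) hr)
      (fun e => hmov ((del_eq_one φ).mp e)) fun b hb => ?_)
    have hc : h⁻¹ * x' = x' * h⁻¹ := by
      calc h⁻¹ * x' = h⁻¹ * (x' * h) * h⁻¹ := by group
        _ = x' * h⁻¹ := by rw [← hh]; group
    have e : φ h⁻¹ (del φ x' r) = del φ x' (φ h⁻¹ r) := del_comm φ hc r
    obtain ⟨t, ht, rfl⟩ := hmem b hb
    rw [apply_mul, apply_mul, e,
      (d.fix_iff t _).mpr (d.k_central ht (d.del_mem_Φ (x := y * s) (Φ.mul_mem hy (hkΦ hs)) _)).symm, ← e,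
      apply_inv']
  -- they cover the chief factor
  set U := (C.map S.subtype).subgroupOf Φ |>.map π with hU
  have hUtop : U = ⊤ := by
    refine d.span_eq_top fun g v n => ?_
    obtain ⟨x, rfl⟩ := d.π_surj n
    have hy : g * j v * g⁻¹ * (x : Γ) * (g * j v * g⁻¹)⁻¹ * (x : Γ)⁻¹ ∈ Φ :=
      Φ.mul_mem (d.conj_mem_Φ _ x.2) (Φ.inv_mem x.2)
    set x' : S := ⟨g⁻¹ * (x : Γ) * g, d.Φ_S (by simpa using d.conj_mem_Φ g⁻¹ x.2)⟩
    have hy2 : ∀ y : Γ, y = g * j v * g⁻¹ * (x : Γ) * (g * j v * g⁻¹)⁻¹ * (x : Γ)⁻¹ → y * y = 1 := by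
      rintro y rfl
      have e1 : g * j v * g⁻¹ * (x : Γ) * (g * j v * g⁻¹)⁻¹ * (x : Γ)⁻¹ = g * j (v * (φ (ρ x') v)⁻¹) * g⁻¹ := by
        rw [map_mul, map_inv, d.act]
        simp only [x']
        group
      rw [e1, show g * j (v * (φ (ρ x') v)⁻¹) * g⁻¹ * (g * j (v * (φ (ρ x') v)⁻¹) * g⁻¹) =
        g * (j (v * (φ (ρ x') v)⁻¹) * j (v * (φ (ρ x') v)⁻¹)) * g⁻¹ by group, ← map_mul, d.expV, map_one, mul_one,
        mul_inv_cancel]
    obtain ⟨z, hz, hzC⟩ := hinvol ⟨_, d.Φ_S hy⟩ hy (hy2 _ rfl)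
    refine ⟨⟨_, hC _ hzC⟩, ⟨_, hzC, rfl⟩, ?_⟩
    have hz1 : π ⟨z, hkΦ hz⟩ = 1 := (d.π_ker _).mpr hz
    rw [show (⟨((⟨_, d.Φ_S hy⟩ : S) * z : S), hC _ hzC⟩ : Φ) =
        ⟨g * j v * g⁻¹ * (x : Γ) * (g * j v * g⁻¹)⁻¹, d.conj_mem_Φ _ x.2⟩ * x⁻¹ * ⟨z, hkΦ hz⟩ from Subtype.ext rfl,
      map_mul, map_mul, map_inv, hz1, mul_one, d.π_conj]
  have hcov : ∀ n, ∃ (x : S) (hx : x ∈ C), π ⟨x, hC x hx⟩ = n := by
    intro n
    obtain ⟨x, ⟨s, hs, hse⟩, e⟩ := (hUtop.symm ▸ Subgroup.mem_top n : n ∈ U)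
    exact ⟨s, hs, e ▸ congrArg π (Subtype.ext hse)⟩
  have hsplit : ∀ x ∈ Φ, ∃ s ∈ C, ∃ z ∈ k.range, x = (s : Γ) * z := by
    intro x hx
    obtain ⟨s, hs, e⟩ := hcov (π ⟨x, hx⟩)
    refine ⟨s, hs, (s : Γ)⁻¹ * x, ?_, (mul_inv_cancel_left _ _).symm⟩
    exact (d.π_ker ((⟨s, hC s hs⟩ : Φ)⁻¹ * ⟨x, hx⟩)).mp (by rw [map_mul, map_inv, e, inv_mul_cancel])
  by_cases hab : ∀ x ∈ Φ, ∀ y ∈ Φ, x * y = y * x
  · refine d.false_of_cover hC hcov ?_ fun v hv a ha => ?_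
    · rintro _ ⟨s, hs, rfl⟩ _ ⟨t, ht, rfl⟩ v
      exact (d.fix_iff s _).mpr (hab _ (hC s hs) _ (d.del_mem_Φ (hC t ht) v))
    · obtain ⟨s, hs, rfl⟩ := ha
      exact hs.2 v hv
  · -- the elements of `V ∩ Φ` are central in `Φ`
    have hcen : ∀ v, j v ∈ Φ → ∀ x ∈ Φ, x * j v = j v * x := by
      intro v hv x hx
      obtain ⟨s, hs, z, hz, rfl⟩ := hsplit x hx
      rw [mul_assoc, ← d.k_central hz hv, ← mul_assoc, (d.fix_iff s v).mp (hs.2 v (d.Φ_le hv)), mul_assoc]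
    set Zc := (Φ ⊓ Subgroup.centralizer (Φ : Set Γ)).subgroupOf Φ with hZc
    have hZinv : ∀ g, ∀ u ∈ Zc.map π, σ g u ∈ Zc.map π := by
      rintro g _ ⟨x, hx, rfl⟩
      refine ⟨⟨g * (x : Γ) * g⁻¹, d.conj_mem_Φ g x.2⟩, ⟨d.conj_mem_Φ g x.2, fun y hy => ?_⟩, d.π_conj g x⟩
      have h1 : g⁻¹ * y * g * (x : Γ) = (x : Γ) * (g⁻¹ * y * g) :=
        hx.2 (g⁻¹ * y * g) (by simpa using d.conj_mem_Φ g⁻¹ hy)
      show y * (g * (x : Γ) * g⁻¹) = g * (x : Γ) * g⁻¹ * y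
      calc y * (g * (x : Γ) * g⁻¹) = g * (g⁻¹ * y * g * (x : Γ)) * g⁻¹ := by group
        _ = g * ((x : Γ) * (g⁻¹ * y * g)) * g⁻¹ := by rw [h1]
        _ = _ := by group
    rcases d.irred _ hZinv with h | h
    swap
    · refine hab fun x hx y hy => ?_
      obtain ⟨c, hc, e⟩ := (h.symm ▸ Subgroup.mem_top (π ⟨x, hx⟩) : π ⟨x, hx⟩ ∈ Zc.map π)
      obtain ⟨z, hz⟩ := (d.π_ker (c⁻¹ * ⟨x, hx⟩)).mp (by rw [map_mul, map_inv, e, inv_mul_cancel])
      have hcy : y * (c : Γ) = (c : Γ) * y := hc.2 y hy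
      rw [show x = (c : Γ) * k z by rw [hz]; exact (mul_inv_cancel_left _ _).symm, mul_assoc, ← d.k_comm z y hy,
        ← mul_assoc, ← hcy, mul_assoc]
    obtain ⟨v, hv⟩ := d.outside
    refine hv (d.V_moves v (MulEquiv.ext fun n => ?_))
    obtain ⟨x, rfl⟩ := d.π_surj n
    set w := del φ (ρ ⟨x, d.Φ_S x.2⟩) v
    have hw : j w ∈ Φ := d.del_mem_Φ (x := ⟨x, d.Φ_S x.2⟩) x.2 v
    have h1 : π ⟨j w, hw⟩ = 1 := Subgroup.mem_bot.mp (h.le ⟨_, ⟨hw, fun y hy => hcen w hw y hy⟩, rfl⟩)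
    have e : (⟨j w, hw⟩ : Φ) = x * ⟨j v * ((x⁻¹ : Φ) : Γ) * (j v)⁻¹, d.conj_mem_Φ _ (x⁻¹).2⟩ := by
      refine Subtype.ext ((d.j_del _ v).trans ?_)
      show (x : Γ) * j v * (x : Γ)⁻¹ * (j v)⁻¹ = (x : Γ) * (j v * (x : Γ)⁻¹ * (j v)⁻¹)
      group
    rw [e, map_mul, d.π_conj, map_inv π, map_inv, mul_inv_eq_one] at h1
    exact h1.symm

theorem k_comm_V (z : Z) (v : V) : k z * j v = j v * k z := by
  have h : φ (ρ ⟨k z, d.k_S z⟩) v = v := by
    rw [show ρ ⟨k z, d.k_S z⟩ = 1 from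
      (Subgroup.eq_bot_iff_forall _).mp d.image_k_eq_bot _ ⟨⟨k z, d.k_S z⟩, ⟨z, rfl⟩, rfl⟩, apply_one]
  exact (d.fix_iff ⟨k z, d.k_S z⟩ v).mp h

end Data

end CfsgLib.SFreeW.Endgame
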