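import Cfsg.Agent.Lib.SFreeW.MainTI.Main
import Cfsg.Agent.Lib.SFreeW.Semisimple

/-!
The final configuration of the amalgam: a group `Γ` acting on a chief factor `N = Φ / Z₀` inside `Q`, and a module `V ≤ S`
for a group `X` in which the images of `Φ` and of `Z₀` are invariant under the subgroup `M` controlling fusion.
-/

set_option autoImplicit false
set_option linter.unusedSectionVars false
set_option linter.style.haveILetI false

open scoped commutatorElement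

namespace CfsgLib.SFreeW.Endgame

open CfsgLib.Fusion.SFreeFF CfsgLib.Fusion.CentralOffender

universe u

variable {Γ X V N Z : Type u} [Group Γ] [Group X] [CommGroup V] [CommGroup N] [CommGroup Z]

/-- The configuration. `j` and `k` are the embeddings of the module and of `Z₀`, `π` is the projection of `Φ` on the
chief factor, `ρ` the action of `S` on the module. -/
structure Data (φ : X →* MulAut V) (σ : Γ →* MulAut N) (j : V →* Γ) (k : Z →* Γ) (S Q Φ : Subgroup Γ)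
    (π : Φ →* N) (ρ : S →* X) (M : Subgroup X) (D : Subgroup V) : Prop where
  inj : Function.Injective φ
  expV : Exp2 V
  expN : Exp2 N
  noS3 : NoS3 X
  core : Cfsg.pCore 2 X = ⊥
  j_inj : Function.Injective j
  k_inj : Function.Injective k
  act : ∀ (s : S) (v : V), j (φ (ρ s) v) = (s : Γ) * j v * (s : Γ)⁻¹
  V_le : ∀ v, j v ∈ S
  Q_norm : Q.Normal
  Q_le : Q ≤ S
  Φ_norm : Φ.Normal
  Φ_le : Φ ≤ Q
  k_norm : k.range.Normal
  k_le : ∀ z, k z ∈ Φ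
  k_comm : ∀ z, ∀ x ∈ Φ, x * k z = k z * x
  π_surj : Function.Surjective π
  π_ker : ∀ x : Φ, π x = 1 ↔ (x : Γ) ∈ k.range
  π_equiv : ∀ (g : Γ) (x : Φ) (h : g * (x : Γ) * g⁻¹ ∈ Φ), π ⟨g * (x : Γ) * g⁻¹, h⟩ = σ g (π x)
  irred : ∀ U : Subgroup N, (∀ g, ∀ u ∈ U, σ g u ∈ U) → U = ⊥ ∨ U = ⊤
  Q_triv : ∀ q ∈ Q, σ q = 1
  V_moves : ∀ v, σ (j v) = 1 → j v ∈ Q
  outside : ∃ v, j v ∉ Q
  effective : dl (⊤ : Subgroup V) + dl (fix σ j.range) < dl (Q.comap j) + dl (⊤ : Subgroup N)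
  D_le : ∀ v ∈ D, j v ∈ Q
  D_fix : ∀ v ∈ D, ∀ x ∈ Φ, x * j v = j v * x
  D_ge : ∀ v, j v ∈ k.range → v ∈ D
  lem : ∀ v ∈ D, v ≠ 1 → ∀ x, φ x v = v → x ∈ M
  S_syl : SylIn ρ.range ⊤
  S_le : ρ.range ≤ M
  M_ne : M ≠ ⊤
  agree : ∀ A ≤ ρ.range, ∀ g, cj A g ≤ ρ.range → ∃ m ∈ M, ∀ a ∈ A, g * a * g⁻¹ = m * a * m⁻¹
  maximal : ∀ A ≤ ρ.range, A ≠ ⊥ → M ≤ Subgroup.normalizer (A : Set X) → Subgroup.normalizer (A : Set X) = M
  M_Φ : M ≤ Subgroup.normalizer (((Φ.subgroupOf S).map ρ : Subgroup X) : Set X)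
  M_k : M ≤ Subgroup.normalizer (((k.range.subgroupOf S).map ρ : Subgroup X) : Set X)
  moves : ∃ s : S, (s : Γ) ∈ Φ ∧ ρ s ≠ 1

variable {φ : X →* MulAut V} {σ : Γ →* MulAut N} {j : V →* Γ} {k : Z →* Γ} {S Q Φ : Subgroup Γ} {π : Φ →* N}
  {ρ : S →* X} {M : Subgroup X} {D : Subgroup V}

namespace Data

variable (d : Data φ σ j k S Q Φ π ρ M D)
include d

theorem Φ_S : Φ ≤ S := d.Φ_le.trans d.Q_le

theorem k_S (z : Z) : k z ∈ S := d.Φ_S (d.k_le z)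

theorem conj_mem_Φ (g : Γ) {x : Γ} (hx : x ∈ Φ) : g * x * g⁻¹ ∈ Φ := d.Φ_norm.conj_mem x hx g

theorem conj_mem_Q (g : Γ) {x : Γ} (hx : x ∈ Q) : g * x * g⁻¹ ∈ Q := d.Q_norm.conj_mem x hx g

/-- The commutator with an element of `S`, read inside `Γ`. -/
theorem j_del (s : S) (v : V) : j (del φ (ρ s) v) = (s : Γ) * j v * (s : Γ)⁻¹ * (j v)⁻¹ := by
  rw [del_apply, map_mul, map_inv, d.act]

/-- An element of `S` fixes `v` exactly when it commutes with it. -/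
theorem fix_iff (s : S) (v : V) : φ (ρ s) v = v ↔ (s : Γ) * j v = j v * (s : Γ) := by
  constructor
  · intro h
    have e := d.act s v
    rw [h] at e
    exact (mul_inv_eq_iff_eq_mul.mp e.symm)
  · intro h
    refine d.j_inj ?_
    rw [d.act, h, mul_inv_cancel_right]

theorem del_mem_Φ {x : S} (hx : (x : Γ) ∈ Φ) (v : V) : j (del φ (ρ x) v) ∈ Φ := by
  rw [d.j_del, mul_assoc, mul_assoc, ← mul_assoc (j v)]
  exact Φ.mul_mem hx (d.conj_mem_Φ (j v) (Φ.inv_mem hx))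

theorem del_mem_Q {x : S} (hx : (x : Γ) ∈ Q) (v : V) : j (del φ (ρ x) v) ∈ Q := by
  rw [d.j_del, mul_assoc, mul_assoc, ← mul_assoc (j v)]
  exact Q.mul_mem hx (d.conj_mem_Q (j v) (Q.inv_mem hx))

/-- Elements of `Q` centralise the chief factor. -/
theorem comm_mem_k {x q : Γ} (hx : x ∈ Φ) (hq : q ∈ Q) : ⁅x, q⁆ ∈ k.range := by
  have h := d.π_equiv q ⟨x⁻¹, Φ.inv_mem hx⟩ (d.conj_mem_Φ q (Φ.inv_mem hx))
  rw [d.Q_triv q hq, MulAut.one_apply] at h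
  have h1 : π (⟨x, hx⟩ * ⟨q * x⁻¹ * q⁻¹, d.conj_mem_Φ q (Φ.inv_mem hx)⟩) = 1 := by
    rw [map_mul]
    show π ⟨x, hx⟩ * π ⟨q * x⁻¹ * q⁻¹, _⟩ = 1
    rw [h, ← map_mul, show (⟨x, hx⟩ : Φ) * ⟨x⁻¹, Φ.inv_mem hx⟩ = 1 from Subtype.ext (mul_inv_cancel x), map_one]
  have h2 := (d.π_ker _).mp h1
  rw [commutatorElement_def, mul_assoc, mul_assoc, ← mul_assoc q]
  exact h2

theorem sq_mem_k {x : Γ} (hx : x ∈ Φ) : x * x ∈ k.range :=
  (d.π_ker (⟨x, hx⟩ * ⟨x, hx⟩)).mp (by rw [map_mul, d.expN])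

theorem k_central {z : Γ} (hz : z ∈ k.range) {x : Γ} (hx : x ∈ Φ) : x * z = z * x := by
  obtain ⟨z, rfl⟩ := hz
  exact d.k_comm z x hx

/-- The commutator of `Φ` with `Q ∩ V` lies in `D`. -/
theorem del_mem_D {x : S} (hx : (x : Γ) ∈ Φ) {v : V} (hv : j v ∈ Q) : del φ (ρ x) v ∈ D := by
  refine d.D_ge _ ?_
  rw [d.j_del]
  exact d.comm_mem_k hx hv

theorem fix_D {x : S} (hx : (x : Γ) ∈ Φ) {v : V} (hv : v ∈ D) : φ (ρ x) v = v :=
  (d.fix_iff x v).mpr (d.D_fix v hv x hx)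

/-- The image of `Φ` in `X`. -/
theorem mem_image {a : X} (ha : a ∈ (Φ.subgroupOf S).map ρ) : ∃ x : S, (x : Γ) ∈ Φ ∧ ρ x = a := ha

theorem image_ne : (Φ.subgroupOf S).map ρ ≠ ⊥ := by
  obtain ⟨s, hs, hne⟩ := d.moves
  exact fun h => hne ((Subgroup.eq_bot_iff_forall _).mp h _ ⟨s, hs, rfl⟩)

theorem image_le : (Φ.subgroupOf S).map ρ ≤ ρ.range := Subgroup.map_le_range ρ _

variable [Finite X]

/-- A nontrivial `M`-invariant subgroup of the Sylow subgroup carried into `M` moves only by `M`. -/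
theorem mem_of_cj {B : Subgroup X} (hB : B ≤ ρ.range) (hne : B ≠ ⊥) (hinv : M ≤ Subgroup.normalizer (B : Set X))
    {g : X} (hg : cj B g ≤ M) : g ∈ M := by
  have hT : SylIn ρ.range M := ⟨d.S_le, d.S_syl.pgroup, fun U _ hU h => d.S_syl.max U le_top hU h⟩
  obtain ⟨m, hm, hle⟩ := hT.exists_conj_le hg (cj_isPGroup (d.S_syl.pgroup.to_le hB) g)
  have h1 : cj B (m⁻¹ * g) ≤ ρ.range := by
    have := cj_mono hle m⁻¹
    rwa [cj_cj, cj_cj, inv_mul_cancel, cj_one] at this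
  obtain ⟨m', hm', he⟩ := d.agree B hB _ h1
  have h2 : m⁻¹ * g ∈ Subgroup.normalizer (B : Set X) := by
    refine mem_normalizer_iff_cj.mpr ((le_antisymm ?_ ?_).trans (mem_normalizer_iff_cj.mp (hinv hm')))
    · rintro _ ⟨b, hb, rfl⟩
      exact ⟨b, hb, (he b hb).symm⟩
    · rintro _ ⟨b, hb, rfl⟩
      exact ⟨b, hb, he b hb⟩
  rw [d.maximal B hB hne hinv] at h2
  have := M.mul_mem hm h2
  rwa [mul_inv_cancel_left] at this

/-- If all the conjugates `h b h⁻¹`, `b ∈ B`, fix a nontrivial vector of `D`, then `h ∈ M`. -/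
theorem mem_of_fix {B : Subgroup X} (hB : B ≤ ρ.range) (hne : B ≠ ⊥) (hinv : M ≤ Subgroup.normalizer (B : Set X))
    {u : V} (hu : u ∈ D) (hu1 : u ≠ 1) {h : X} (hfix : ∀ b ∈ B, φ (h * b * h⁻¹) u = u) : h ∈ M :=
  d.mem_of_cj hB hne hinv (by rintro _ ⟨b, hb, rfl⟩; exact d.lem u hu hu1 _ (hfix b hb))

/-- An elementary abelian `M`-invariant subgroup with centralisers in `M` is TI. -/
theorem ti_of {B : Subgroup X} (hB : B ≤ ρ.range) (hne : B ≠ ⊥) (hinv : M ≤ Subgroup.normalizer (B : Set X))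
    (hcomm : ∀ a ∈ B, ∀ b ∈ B, a * b = b * a) (hsq : ∀ a ∈ B, a * a = 1)
    (hcent : ∀ a ∈ B, a ≠ 1 → ∀ x, x * a = a * x → x ∈ M) : TI B M where
  norm := (d.maximal B hB hne hinv).symm
  ne := hne
  comm := hcomm
  sq := hsq
  cent := hcent
  mem a ha g hg := by
    have hT : SylIn ρ.range M := ⟨d.S_le, d.S_syl.pgroup, fun U _ hU h => d.S_syl.max U le_top hU h⟩
    have hp : IsPGroup 2 (Subgroup.zpowers (g * a * g⁻¹)) := by
      refine isPGroup_zpowers_of_sq ?_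
      rw [show g * a * g⁻¹ * (g * a * g⁻¹) = g * (a * a) * g⁻¹ by group, hsq a ha, mul_one, mul_inv_cancel]
    obtain ⟨m, hm, hle⟩ := hT.exists_conj_le (Subgroup.zpowers_le.mpr hg) hp
    have hA : Subgroup.zpowers a ≤ ρ.range := Subgroup.zpowers_le.mpr (hB ha)
    have h1 : cj (Subgroup.zpowers a) (m⁻¹ * g) ≤ ρ.range := by
      rw [cj, MonoidHom.map_zpowers, Subgroup.zpowers_le]
      have h2 := mem_cj.mp (hle (Subgroup.mem_zpowers _))
      show m⁻¹ * g * a * (m⁻¹ * g)⁻¹ ∈ ρ.range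
      convert h2 using 1
      group
    obtain ⟨m', hm', he⟩ := d.agree _ hA _ h1
    have e : g * a * g⁻¹ = m * (m' * a * m'⁻¹) * m⁻¹ := by
      rw [← he a (Subgroup.mem_zpowers a)]; group
    rw [e]
    exact (Subgroup.mem_normalizer_iff.mp (hinv hm) _).mp ((Subgroup.mem_normalizer_iff.mp (hinv hm') a).mp ha)

end Data

end CfsgLib.SFreeW.Endgame
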