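import Cfsg.Agent.Lib.SFreeW.Endgame.Central

/-!
The commutator form of the centraliser of `Z₀` in `Q` on the chief factor, and the image of `Φ` on the module.
-/

set_option autoImplicit false
set_option linter.unusedSectionVars false
set_option linter.style.haveILetI false

open scoped commutatorElement

namespace CfsgLib.SFreeW.Endgame

open CfsgLib.Fusion.SFreeFF CfsgLib.Fusion.CentralOffender

universe u

variable {Γ X V N Z : Type u} [Group Γ] [Finite Γ] [Group X] [Finite X] [CommGroup V] [Finite V] [CommGroup N]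
  [Finite N] [CommGroup Z]
variable {φ : X →* MulAut V} {σ : Γ →* MulAut N} {j : V →* Γ} {k : Z →* Γ} {S Q Φ : Subgroup Γ} {π : Φ →* N}
  {ρ : S →* X} {M : Subgroup X} {D : Subgroup V}

/-- The centraliser of `Z₀` in `Q`. -/
abbrev qc (k : Z →* Γ) (Q : Subgroup Γ) : Subgroup Γ := Q ⊓ Subgroup.centralizer (k.range : Set Γ)

namespace Data

variable (d : Data φ σ j k S Q Φ π ρ M D)
include d

theorem qc_le (q : qc k Q) : (q : Γ) ∈ S := d.Q_le q.2.1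

theorem mem_qc_of_Φ {x : Γ} (hx : x ∈ Φ) : x ∈ qc k Q :=
  ⟨d.Φ_le hx, Subgroup.mem_centralizer_iff.mpr fun _ hz => (d.k_central hz hx).symm⟩

theorem mem_qc_of_j {v : V} (hv : j v ∈ Q) : j v ∈ qc k Q :=
  ⟨hv, Subgroup.mem_centralizer_iff.mpr (by rintro _ ⟨z, rfl⟩; exact d.k_comm_V z v)⟩

theorem qc_normal : (qc k Q).Normal := by
  haveI := d.Q_norm
  haveI := d.k_norm
  exact ⟨fun x hx g => ⟨d.conj_mem_Q g hx.1, Subgroup.mem_centralizer_iff.mpr fun z hz => by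
    have h := Subgroup.mem_centralizer_iff.mp hx.2 (g⁻¹ * z * g) (by simpa using d.k_norm.conj_mem z hz g⁻¹)
    calc z * (g * x * g⁻¹) = g * (g⁻¹ * z * g * x) * g⁻¹ := by group
      _ = g * (x * (g⁻¹ * z * g)) * g⁻¹ := by rw [h]
      _ = _ := by group⟩⟩

theorem conj_mem_qc (g : Γ) {x : Γ} (hx : x ∈ qc k Q) : g * x * g⁻¹ ∈ qc k Q := d.qc_normal.conj_mem x hx g

/-- The conjugates of the module centralise `Z₀`. -/
theorem conj_j_comm (g : Γ) (v : V) {z : Γ} (hz : z ∈ k.range) :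
    g * j v * g⁻¹ * z = z * (g * j v * g⁻¹) := by
  obtain ⟨z', hz'⟩ := (by simpa using d.k_norm.conj_mem z hz g⁻¹ : g⁻¹ * z * g ∈ k.range)
  have h := d.k_comm_V z' v
  rw [hz'] at h
  calc g * j v * g⁻¹ * z = g * (j v * (g⁻¹ * z * g)) * g⁻¹ := by group
    _ = g * (g⁻¹ * z * g * j v) * g⁻¹ := by rw [h]
    _ = _ := by group

/-- The commutator form. -/
theorem exists_form : ∃ f : qc k Q →* (N →* Z), ∀ (q : qc k Q) (x : Φ), k (f q (π x)) = ⁅(x : Γ), (q : Γ)⁆ := by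
  have hex : ∀ (q : qc k Q) (x : Φ), ∃ z, k z = ⁅(x : Γ), (q : Γ)⁆ := fun q x => d.comm_mem_k x.2 q.2.1
  choose g hg using hex
  have hcen : ∀ (q : qc k Q) {z : Γ}, z ∈ k.range → (q : Γ) * z = z * q := fun q z hz =>
    (Subgroup.mem_centralizer_iff.mp q.2.2 z hz).symm
  let g' : qc k Q → (Φ →* Z) := fun q => MonoidHom.mk' (g q) fun x y => d.k_inj (by
    rw [map_mul, hg, hg, hg, Subgroup.coe_mul]
    have h1 := d.k_central (hg q y ▸ (⟨g q y, rfl⟩ : k (g q y) ∈ k.range)) x.2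
    have h2 : ⁅(x : Γ) * (y : Γ), (q : Γ)⁆ = (x : Γ) * ⁅(y : Γ), (q : Γ)⁆ * (x : Γ)⁻¹ * ⁅(x : Γ), (q : Γ)⁆ := by
      simp only [commutatorElement_def]; group
    rw [h2, h1, mul_inv_cancel_right, ← hg q x, ← hg q y, ← map_mul, ← map_mul, mul_comm])
  have hker : ∀ q, π.ker ≤ (g' q).ker := fun q x hx => MonoidHom.mem_ker.mpr (d.k_inj (by
    show k (g q x) = k 1
    rw [hg, map_one, commutatorElement_eq_one_iff_mul_comm]
    exact (hcen q ((d.π_ker x).mp hx)).symm))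
  let f₀ : qc k Q → (N →* Z) := fun q => π.liftOfSurjective d.π_surj ⟨g' q, hker q⟩
  have hf₀ : ∀ q x, k (f₀ q (π x)) = ⁅(x : Γ), (q : Γ)⁆ := fun q x => by
    show k (π.liftOfRightInverse _ _ ⟨g' q, hker q⟩ (π x)) = _
    rw [MonoidHom.liftOfRightInverse_comp_apply]
    exact hg q x
  refine ⟨MonoidHom.mk' f₀ fun a b => MonoidHom.ext fun n => ?_, hf₀⟩
  obtain ⟨x, rfl⟩ := d.π_surj n
  refine d.k_inj ?_
  rw [MonoidHom.mul_apply, map_mul, hf₀, hf₀, hf₀, Subgroup.coe_mul]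
  have h1 := hcen a (hg b x ▸ (⟨g b x, rfl⟩ : k (g b x) ∈ k.range))
  have h2 : ⁅(x : Γ), (a : Γ) * (b : Γ)⁆ = ⁅(x : Γ), (a : Γ)⁆ * ((a : Γ) * ⁅(x : Γ), (b : Γ)⁆ * (a : Γ)⁻¹) := by
    simp only [commutatorElement_def]; group
  rw [h2, h1, mul_inv_cancel_right]

/-- The image of the chief factor on the module. -/
theorem exists_image : ∃ r : N →* X, (∀ (x : Φ), r (π x) = ρ ⟨x, d.Φ_S x.2⟩) ∧
    r.range = (Φ.subgroupOf S).map ρ := by
  set e : Φ →* S := Subgroup.inclusion d.Φ_S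
  have hker : π.ker ≤ (ρ.comp e).ker := fun x hx => MonoidHom.mem_ker.mpr
    ((Subgroup.eq_bot_iff_forall _).mp d.image_k_eq_bot _ ⟨e x, (d.π_ker x).mp hx, rfl⟩)
  refine ⟨π.liftOfSurjective d.π_surj ⟨ρ.comp e, hker⟩,
    fun x => MonoidHom.liftOfRightInverse_comp_apply _ _ _ ⟨ρ.comp e, hker⟩ x, ?_⟩
  ext a
  constructor
  · rintro ⟨n, rfl⟩
    obtain ⟨x, rfl⟩ := d.π_surj n
    exact ⟨e x, x.2, (MonoidHom.liftOfRightInverse_comp_apply _ _ _ ⟨ρ.comp e, hker⟩ x).symm⟩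
  · rintro ⟨s, hs, rfl⟩
    exact ⟨π ⟨s, hs⟩, MonoidHom.liftOfRightInverse_comp_apply _ _ _ ⟨ρ.comp e, hker⟩ ⟨s, hs⟩⟩

variable {f : qc k Q →* (N →* Z)}
variable (hf : ∀ (q : qc k Q) (x : Φ), k (f q (π x)) = ⁅(x : Γ), (q : Γ)⁆)
include hf

theorem form_apply_eq_one (q : qc k Q) (x : Φ) : f q (π x) = 1 ↔ (x : Γ) * q = q * x := by
  rw [← commutatorElement_eq_one_iff_mul_comm, ← hf q x]
  exact ⟨fun h => by rw [h, map_one], fun h => d.k_inj (h.trans (map_one k).symm)⟩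

theorem form_eq_one (q : qc k Q) : f q = 1 ↔ ∀ x ∈ Φ, x * (q : Γ) = q * x := by
  constructor
  · intro h x hx
    exact (d.form_apply_eq_one hf q ⟨x, hx⟩).mp (by rw [h]; rfl)
  · intro h
    refine MonoidHom.ext fun n => ?_
    obtain ⟨x, rfl⟩ := d.π_surj n
    exact (d.form_apply_eq_one hf q x).mpr (h x x.2)

/-- Conjugation preserves the equalities between values of the form. -/
theorem form_conj_congr (g : Γ) {q q' : qc k Q} (h : f q = f q') :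
    f ⟨g * (q : Γ) * g⁻¹, d.conj_mem_qc g q.2⟩ = f ⟨g * (q' : Γ) * g⁻¹, d.conj_mem_qc g q'.2⟩ := by
  refine MonoidHom.ext fun n => ?_
  obtain ⟨x, rfl⟩ := d.π_surj n
  refine d.k_inj ?_
  rw [hf, hf]
  set x' : Φ := ⟨g⁻¹ * (x : Γ) * g, by simpa using d.conj_mem_Φ g⁻¹ x.2⟩
  have e : ⁅g⁻¹ * (x : Γ) * g, (q : Γ)⁆ = ⁅g⁻¹ * (x : Γ) * g, (q' : Γ)⁆ :=
    (hf q x').symm.trans ((congrArg (fun u => k (u (π x'))) h).trans (hf q' x'))
  have key : ∀ a : Γ, ⁅(x : Γ), g * a * g⁻¹⁆ = g * ⁅g⁻¹ * (x : Γ) * g, a⁆ * g⁻¹ := fun a => by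
    simp only [commutatorElement_def]; group
  rw [key, key, e]

/-- The form is equivariant for the elements centralising `Z₀`. -/
theorem form_conj (g : Γ) (hg : ∀ z ∈ k.range, g * z = z * g) (q : qc k Q) :
    f ⟨g * (q : Γ) * g⁻¹, d.conj_mem_qc g q.2⟩ = preAct (V := Z) σ g (f q) := by
  refine MonoidHom.ext fun n => ?_
  obtain ⟨x, rfl⟩ := d.π_surj n
  refine d.k_inj ?_
  rw [preAct_apply, ← d.π_conj, hf, hf]
  show ⁅(x : Γ), g * (q : Γ) * g⁻¹⁆ = ⁅g⁻¹ * (x : Γ) * g⁻¹⁻¹, (q : Γ)⁆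
  have key : ⁅(x : Γ), g * (q : Γ) * g⁻¹⁆ = g * ⁅g⁻¹ * (x : Γ) * g⁻¹⁻¹, (q : Γ)⁆ * g⁻¹ := by
    simp only [commutatorElement_def]; group
  rw [key, hg _ (d.comm_mem_k (d.conj_mem_Φ g⁻¹ x.2) q.2.1), mul_inv_cancel_right]

/-- The module meets `Q` in elements moving `Φ`. -/
theorem exists_moving : ∃ (v : V) (hv : j v ∈ Q), f ⟨j v, d.mem_qc_of_j hv⟩ ≠ 1 := by
  by_contra hall
  push Not at hall
  have hcomm : ∀ v, j v ∈ Q → ∀ s : S, (s : Γ) ∈ Φ → φ (ρ s) v = v := fun v hv s hs =>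
    (d.fix_iff s v).mpr ((d.form_eq_one hf _).mp (hall v hv) _ hs)
  refine d.false_of_cover (C := Φ.subgroupOf S) (fun x hx => hx) (fun n => ?_) ?_ fun v hv a ha => ?_
  · obtain ⟨x, rfl⟩ := d.π_surj n
    exact ⟨⟨x, d.Φ_S x.2⟩, x.2, rfl⟩
  · rintro _ ⟨s, hs, rfl⟩ _ ⟨t, ht, rfl⟩ v
    exact hcomm _ (d.Φ_le (d.del_mem_Φ ht v)) s hs
  · obtain ⟨s, hs, rfl⟩ := ha
    exact hcomm v hv s hs

/-- The form separates the points of the chief factor. -/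
theorem form_separates {n : N} (hn : ∀ q, f q n = 1) : n = 1 := by
  set K : Subgroup N := ann f.range
  have hK : n ∈ K := by rintro _ ⟨q, rfl⟩; exact hn q
  have hinv : ∀ g, ∀ u ∈ K, σ g u ∈ K := by
    rintro g u hu _ ⟨q, rfl⟩
    obtain ⟨x, rfl⟩ := d.π_surj u
    rw [← d.π_conj, d.form_apply_eq_one hf]
    have h := (d.form_apply_eq_one hf ⟨_, d.conj_mem_qc g⁻¹ q.2⟩ x).mp (hu _ ⟨_, rfl⟩)
    show g * (x : Γ) * g⁻¹ * (q : Γ) = (q : Γ) * (g * (x : Γ) * g⁻¹)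
    calc g * (x : Γ) * g⁻¹ * (q : Γ) = g * ((x : Γ) * (g⁻¹ * (q : Γ) * g⁻¹⁻¹)) * g⁻¹ := by group
      _ = g * (g⁻¹ * (q : Γ) * g⁻¹⁻¹ * (x : Γ)) * g⁻¹ := by rw [h]
      _ = _ := by group
  rcases d.irred _ hinv with h | h
  · exact Subgroup.mem_bot.mp (h.le hK)
  · obtain ⟨v, hv, hne⟩ := d.exists_moving hf
    exact absurd (MonoidHom.ext fun m => (h.symm ▸ Subgroup.mem_top m : m ∈ K) _ ⟨_, rfl⟩) hne

/-- The alternating form of the chief factor. -/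
theorem exists_ad : ∃ b : N →* (N →* Z), ∀ x : Φ, b (π x) = f ⟨x, d.mem_qc_of_Φ x.2⟩ := by
  set e : Φ →* qc k Q := Subgroup.inclusion fun x hx => d.mem_qc_of_Φ hx
  have hker : π.ker ≤ (f.comp e).ker := fun x hx => MonoidHom.mem_ker.mpr
    ((d.form_eq_one hf _).mpr fun y hy => d.k_central ((d.π_ker x).mp hx) hy)
  exact ⟨π.liftOfSurjective d.π_surj ⟨f.comp e, hker⟩,
    fun x => MonoidHom.liftOfRightInverse_comp_apply _ _ _ ⟨f.comp e, hker⟩ x⟩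

variable {b : N →* (N →* Z)} (hb : ∀ x : Φ, b (π x) = f ⟨x, d.mem_qc_of_Φ x.2⟩)
include hb

theorem ad_eq_one (x y : Φ) : b (π x) (π y) = 1 ↔ (y : Γ) * x = x * y := by
  rw [hb, d.form_apply_eq_one hf]

theorem ad_symm (m n : N) : b m n = 1 ↔ b n m = 1 := by
  obtain ⟨x, rfl⟩ := d.π_surj m
  obtain ⟨y, rfl⟩ := d.π_surj n
  rw [d.ad_eq_one hf hb, d.ad_eq_one hf hb]
  exact eq_comm

theorem ad_equiv (g : Γ) (m n : N) (h : b m n = 1) : b (σ g m) (σ g n) = 1 := by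
  obtain ⟨x, rfl⟩ := d.π_surj m
  obtain ⟨y, rfl⟩ := d.π_surj n
  rw [← d.π_conj, ← d.π_conj, d.ad_eq_one hf hb]
  rw [d.ad_eq_one hf hb] at h
  show g * (y : Γ) * g⁻¹ * (g * (x : Γ) * g⁻¹) = g * (x : Γ) * g⁻¹ * (g * (y : Γ) * g⁻¹)
  calc _ = g * ((y : Γ) * x) * g⁻¹ := by group
    _ = g * ((x : Γ) * y) * g⁻¹ := by rw [h]
    _ = _ := by group

theorem ad_injective (hne : b ≠ 1) {n : N} (hn : b n = 1) : n = 1 := by
  have hinv : ∀ g, ∀ u ∈ b.ker, σ g u ∈ b.ker := fun g u hu => MonoidHom.mem_ker.mpr (MonoidHom.ext fun m => by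
    rw [show m = σ g (σ g⁻¹ m) from (apply_inv' σ g m).symm]
    exact d.ad_equiv hf hb g u _ (DFunLike.congr_fun (MonoidHom.mem_ker.mp hu) _))
  rcases d.irred _ hinv with h | h
  · exact Subgroup.mem_bot.mp (h.le (MonoidHom.mem_ker.mpr hn))
  · exact absurd (MonoidHom.ext fun m => MonoidHom.mem_ker.mp (h.symm ▸ Subgroup.mem_top m : m ∈ b.ker)) hne

end Data

end CfsgLib.SFreeW.Endgame
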